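import Groth.Agent.CBC.H1Zero.Main
import Groth.Agent.CBC.NormGen
import Groth.Agent.BigVol.KoszulSurj
import Groth.Agent.EulerChar.AmpleCurve
import Groth.Agent.ProjTwist.Pn.Finite

/-!
# Ample invertible modules when `H¹(O) = 0`
-/

set_option autoImplicit false
set_option linter.style.haveILetI false

universe u

open CategoryTheory CategoryTheory.Limits AlgebraicGeometry TopologicalSpace Opposite

noncomputable section

namespace Groth.Agent.CBC.H1Zero

variable {X : Scheme.{u}}

theorem relNef_of_isAmple {A : Type u} [CommRing A] (f : X ⟶ Spec (CommRingCat.of A)) [IsProper f]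
    {L : X.Modules} (hL : CohB1.IsAmple L) : RelNef f L := by
  intro K _ i J t hint hd ht
  letI : J.subscheme.Over (Spec (CommRingCat.of K)) := ⟨t⟩
  haveI : IsProper (J.subscheme ↘ Spec (CommRingCat.of K)) := by
    show IsProper t
    haveI : IsProper (t ≫ Spec.map (CommRingCat.ofHom i)) := by rw [ht]; infer_instance
    exact IsProper.of_comp t (Spec.map (CommRingCat.ofHom i))
  haveI := hint
  haveI : CompactSpace J.subscheme := EulerChar.compactSpace K (X := J.subscheme)
  exact (EulerChar.deg_pos_of_isAmple K hd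
    (AmpleLib.isAmple_pullback_of_isInducing J.subschemeι J.subschemeι.isClosedEmbedding.isInducing hL)).le

theorem nef_field_of_isAmple (k : Type u) [Field k] [X.Over (Spec (CommRingCat.of k))]
    [IsProper (X ↘ Spec (CommRingCat.of k))] {L : X.Modules} (hL : CohB1.IsAmple L) :
    ∀ J : X.IdealSheafData, IsIntegral J.subscheme → topologicalKrullDim J.subscheme = 1 →
      0 ≤ @Curv2.deg k _ J.subscheme ⟨J.subschemeι ≫ (X ↘ (Spec (CommRingCat.of k)))⟩
        ((Scheme.Modules.pullback J.subschemeι).obj L) 1 := fun J hJ hd =>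
  relNef_of_isAmple (X ↘ Spec (CommRingCat.of k)) hL k (RingHom.id k) J _ hJ hd (by
    rw [show CommRingCat.ofHom (RingHom.id k) = 𝟙 _ from rfl, Spec.map_id, Category.comp_id])

theorem isAmple_of_isRelAmple {S : Scheme.{u}} [IsAffine S] (f : X ⟶ S) {L : X.Modules}
    (hL : RelAmple.IsRelAmple f L) : CohB1.IsAmple L := by
  have h := hL.2 ⟨⊤, isAffineOpen_top S⟩
  haveI := hL.1
  haveI : CompactSpace X := QuasiCompact.compactSpace_of_compactSpace f
  let U := f ⁻¹ᵁ (⊤ : S.Opens)
  let g : X ⟶ U.toScheme := X.topIso.inv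
  have hg : g ≫ U.ι = 𝟙 X := X.topIso.inv_hom_id
  have hind : Topology.IsInducing g := g.isOpenEmbedding.isInducing
  have h2 := AmpleLib.isAmple_pullback_of_isInducing g hind h
  exact AmpleLib.isAmple_of_iso
    ((Scheme.Modules.pullback g).mapIso ((Scheme.Modules.restrictFunctorIsoPullback U.ι).app L) ≪≫
      (Scheme.Modules.pullbackComp g U.ι).app L ≪≫ (Scheme.Modules.pullbackCongr hg).app L ≪≫
      (Scheme.Modules.pullbackId X).app L) h2

theorem isCoh_inv {L : X.Modules} (hL : PicF.IsInvertible L) [IsLocallyNoetherian X] : Coh.IsCoh L :=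
  VBLib.isCoh_of_ofRank (ProjTwist.isFinLocFreeOfRank_one hL)

theorem nonempty_down {L M : X.Modules} (i : CohB1.tensorMod M L ≅ Coh.structureModule X) (P : X.Modules) :
    Nonempty ((BigVol.KoszulSurj.tensF M).obj ((BigVol.KoszulSurj.tensF M).obj
      (CohB1.tensorMod (CohB1.tensorMod P L) L)) ≅ P) :=
  ⟨(BigVol.KoszulSurj.tensF M).mapIso
      ((BigVol.KoszulSurj.upDown i).app ((BigVol.KoszulSurj.tensF L).obj P)) ≪≫
    (BigVol.KoszulSurj.upDown i).app P⟩

section Gen

variable (hH2 : ∀ M : X.Modules, Coh.IsQCoh M → ∀ q, 2 ≤ q → Subsingleton (Coh.HH X M q))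
  (h1 : Subsingleton (Coh.HH X (Coh.structureModule X) 1))
  {L : X.Modules} (hL : PicF.IsInvertible L) (hgg : Curv2.IsGloballyGenerated L)

include hH2 h1 hL hgg in
/-- Powers of a globally generated module have no `H¹`. -/
theorem h1_pow_gg [IsNoetherian X] : ∀ j, Subsingleton (Coh.HH X (CohB1.tensorPow L j) 1) := by
  intro j
  induction j with
  | zero => exact h1
  | succ j ih =>
    have hc : ∀ m, Coh.IsCoh (CohB1.tensorPow L m) := fun m =>
      isCoh_inv (AmpleLib.isInvertible_tensorPow hL m)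
    obtain ⟨ι, hι, p, hp⟩ := DefAmple27.exists_epi_tensor (CohB1.tensorPow L j)
      (isCoh_inv hL) hgg
    haveI := hp
    haveI := hι
    haveI : ∀ _ : ι, Subsingleton (Coh.HH X (CohB1.tensorPow L j) 1) := fun _ => ih
    exact @h1_epi X (fun M hM => hH2 M hM 2 le_rfl) _ _ p hp
      (ProjTwist.Pn.isCoh_sigma _ fun _ => hc j).1 (hc (j + 1)).1 (CohLin.subsingleton_sigma _ 1)

include hH2 h1 hL hgg in
/-- Every section of `L^(n+1)` is a sum of products of a section of `L^n` and one of `L`, `n ≥ 1`. -/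
theorem gen [IsNoetherian X] : NormGen.Gen L := by
  intro n hn σ
  obtain ⟨m, rfl⟩ : ∃ m, n = m + 1 := ⟨n - 1, by omega⟩
  obtain ⟨M, hM, ⟨eM⟩⟩ := PicLaw.exists_inverse hL
  let i : CohB1.tensorMod M L ≅ Coh.structureModule X := ProjTwist.tensComm M L ≪≫ eM
  have hloc : ∀ x : X, ∃ g : Γ(L, ⊤), x ∈ AmpleLib.locus g :=
    DimOneAmple.exists_genLocus_mem hL hgg
  choose g hg using hloc
  obtain ⟨T, hT⟩ := isCompact_univ.elim_finite_subcover
    (fun x : X => ((AmpleLib.locus (g x)) : Set X)) (fun x => (AmpleLib.locus (g x)).2)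
    fun x _ => Set.mem_iUnion.2 ⟨x, hg x⟩
  let G : Fin T.card → Γ(L, ⊤) := fun a => g (T.equivFin.symm a)
  have hG : ∀ x : X, ∃ a, x ∈ AmpleLib.locus (G a) := fun x => by
    obtain ⟨y, hy, hxy⟩ := Set.mem_iUnion₂.1 (hT (Set.mem_univ x))
    exact ⟨T.equivFin ⟨y, hy⟩, by simpa [G] using hxy⟩
  have hinv : ∀ c, PicF.IsInvertible
      ((fun G => (BigVol.KoszulSurj.tensF M).obj G)^[c] (CohB1.tensorPow L (m + 1 + 1))) := by
    intro c
    induction c with
    | zero => exact AmpleLib.isInvertible_tensorPow hL _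
    | succ c ih =>
      rw [Function.iterate_succ_apply']
      exact AmpleLib.isInvertible_tensorMod ih hM
  have hvan : ∀ q, 1 ≤ q → q < T.card → Subsingleton (Coh.HH X
      ((fun G => (BigVol.KoszulSurj.tensF M).obj G)^[q + 1]
        (CohB1.tensorMod (CohB1.tensorPow L (m + 1)) L)) q) := fun q h1q _ => by
    rcases eq_or_lt_of_le h1q with rfl | hq
    · obtain ⟨e⟩ := nonempty_down i (CohB1.tensorPow L m)
      haveI := h1_pow_gg hH2 h1 hL hgg m
      rw [Function.iterate_succ_apply', Function.iterate_one]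
      exact BigVol.KoszulSurj.subsingleton_of_iso e.symm 1
    · exact hH2 _ (isCoh_inv (hinv (q + 1))).1 q hq
  obtain ⟨y, hy⟩ := BigVol.KoszulSurj.exists_eq_sum_tmul i (F := CohB1.tensorPow L (m + 1)) T.card G hG hvan σ
  rw [hy]
  exact sum_mem fun a _ => AddSubgroup.subset_closure ⟨y a, G a, rfl⟩

end Gen

/-- An ample module is normally generated when `H¹(O) = 0` and the fibres have dimension at most one. -/
theorem gen_of_rel {A : Type u} [CommRing A] [IsNoetherianRing A] (f : X ⟶ Spec (CommRingCat.of A)) [IsProper f]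
    (hfib : ∀ y, topologicalKrullDim ↥(f.fiber y) ≤ 1)
    (h1 : Subsingleton (Coh.HH X (Coh.structureModule X) 1))
    {L : X.Modules} (hA : CohB1.IsAmple L) : NormGen.Gen L := by
  haveI : IsLocallyNoetherian X := LocallyOfFiniteType.isLocallyNoetherian f
  haveI := hA.2.1
  haveI : IsNoetherian X := ⟨⟩
  exact gen (fun M hM q hq => subsingleton_HH_of_fibres f hfib M hM q hq) h1 hA.1
    (rel_main f hfib h1 hA.1 (relNef_of_isAmple f hA)).1

end Groth.Agent.CBC.H1Zero

end
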