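import Groth.Agent.CBC.H1Zero.Main

/-!
# Lipman vanishing with the nef condition tested over closed points only
-/

set_option autoImplicit false
set_option linter.style.haveILetI false

universe u

open CategoryTheory CategoryTheory.Limits AlgebraicGeometry TopologicalSpace Opposite

noncomputable section

namespace Groth.Agent.CBC.H1Zero

variable {X : Scheme.{u}}

/-- Nonnegative degree on the integral curves in closed fibres. -/
def RelNefClosed {A : Type u} [CommRing A] (f : X ⟶ Spec (CommRingCat.of A)) (L : X.Modules) : Prop :=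
  ∀ (m : Ideal A) (hm : m.IsMaximal) (J : X.IdealSheafData)
    (t : J.subscheme ⟶ Spec (CommRingCat.of (A ⧸ m))),
    AlgebraicGeometry.IsIntegral J.subscheme → topologicalKrullDim ↥J.subscheme = 1 →
    t ≫ Spec.map (CommRingCat.ofHom (Ideal.Quotient.mk m)) = J.subschemeι ≫ f →
    0 ≤ @Curv2.deg (A ⧸ m) (Ideal.Quotient.field m) J.subscheme ⟨t⟩
      ((Scheme.Modules.pullback J.subschemeι).obj L) 1

/-- An `f`-nef invertible module satisfies the point condition. -/
theorem pointSections_closed {A : Type u} [CommRing A] [IsNoetherianRing A] [X.Over (Spec (CommRingCat.of A))]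
    [IsProper (X ↘ Spec (CommRingCat.of A))]
    (hfib : ∀ y, topologicalKrullDim ↥((X ↘ Spec (CommRingCat.of A)).fiber y) ≤ 1)
    (h1 : Subsingleton (Coh.HH X (Coh.structureModule X) 1))
    {L : X.Modules} (hL : PicF.IsInvertible L) (hnef : RelNefClosed (X ↘ Spec (CommRingCat.of A)) L) :
    PointSections A L := by
  intro Q p hp hQ m hm hkill h0
  haveI := hp
  haveI := hm
  let str := X ↘ Spec (CommRingCat.of A)
  haveI : IsLocallyNoetherian X := LocallyOfFiniteType.isLocallyNoetherian str
  haveI : CompactSpace X := QuasiCompact.compactSpace_of_compactSpace str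
  haveI : IsNoetherian X := ⟨⟩
  haveI : Q.IsQuasicoherent := hQ.1
  haveI : Q.IsFiniteType := hQ.2
  let D := ScSupp.annIdeal Q
  let i := D.subschemeι
  let Q' := (Scheme.Modules.pullback i).obj Q
  have hKilled : CohDev.Killed i.ker Q := by
    rw [Scheme.IdealSheafData.ker_subschemeι]
    intro V a ha s
    exact Module.mem_annihilator.1 ha s
  let eQ' : Q ≅ (Scheme.Modules.pushforward i).obj Q' := CohDev.unitIsoOfKilled i hKilled
  -- `D.subscheme` lives over the residue field
  let ψ : A →+* Γ(D.subscheme, ⊤) := Coh.toGlobal (i ≫ str)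
  have hψ : ∀ a ∈ m, ψ a = 0 := fun a ha => by
    refine TopCat.Sheaf.eq_of_locally_eq' D.subscheme.sheaf (fun V : X.affineOpens => i ⁻¹ᵁ V.1) ⊤
      (fun V => homOfLE le_top) ?_ _ _ fun V => ?_
    · rw [← Scheme.Hom.preimage_iSup, iSup_affineOpens_eq_top, Scheme.Hom.preimage_top]
    · have hmem : QCoh.rres (le_top : V.1 ≤ ⊤) (base a) ∈ (i.ker).ideal V := by
        rw [Scheme.IdealSheafData.ker_subschemeι]
        refine Module.mem_annihilator.2 fun s => ?_
        have h := congrArg (fun w : Q ⟶ Q => w.app V.1 s) (hkill a ha)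
        exact h
      rw [Scheme.Hom.ker_apply, RingHom.mem_ker] at hmem
      refine Eq.trans (Eq.trans ?_ hmem) (map_zero _).symm
      exact (ConcreteCategory.congr_hom (i.naturality (homOfLE (le_top : V.1 ≤ ⊤)).op) (base a)).symm
  let φ : A ⧸ m →+* Γ(D.subscheme, ⊤) := Ideal.Quotient.lift m ψ hψ
  letI : Field (A ⧸ m) := Ideal.Quotient.field m
  let t : D.subscheme ⟶ Spec (CommRingCat.of (A ⧸ m)) :=
    D.subscheme.toSpecΓ ≫ Spec.map (CommRingCat.ofHom φ)
  let c : Spec (CommRingCat.of (A ⧸ m)) ⟶ Spec (CommRingCat.of A) :=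
    Spec.map (CommRingCat.ofHom (Ideal.Quotient.mk m))
  have ht : t ≫ c = i ≫ str := by
    have e : CommRingCat.ofHom (Ideal.Quotient.mk m) ≫ CommRingCat.ofHom φ = CommRingCat.ofHom ψ :=
      CommRingCat.hom_ext (RingHom.ext fun a => Ideal.Quotient.lift_mk m ψ hψ (a := a))
    simp only [t, c, Category.assoc, ← Spec.map_comp]
    exact (congrArg (fun w => D.subscheme.toSpecΓ ≫ Spec.map w) e).trans (eq_toSpecΓ_map _)
  letI : D.subscheme.Over (Spec (CommRingCat.of (A ⧸ m))) := ⟨t⟩
  haveI : IsProper (D.subscheme ↘ Spec (CommRingCat.of (A ⧸ m))) := by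
    show IsProper t
    haveI : IsClosedImmersion c := IsClosedImmersion.spec_of_surjective _ Ideal.Quotient.mk_surjective
    haveI : IsProper (t ≫ c) := by rw [ht]; infer_instance
    exact IsProper.of_comp t c
  haveI := EulerChar.isNoetherian (A ⧸ m) (X := D.subscheme)
  let y : Spec (CommRingCat.of A) := ⟨m, hm.isPrime⟩
  have hrange : ∀ z, str (i z) = y := fun z => by
    rw [← Scheme.Hom.comp_apply, ← ht, Scheme.Hom.comp_apply]
    refine PrimeSpectrum.ext ?_
    show Ideal.comap (Ideal.Quotient.mk m) (t z).asIdeal = m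
    have : (t z).asIdeal = ⊥ := (Ideal.eq_bot_or_top _).resolve_right (t z).isPrime.ne_top
    rw [this, ← RingHom.ker, Ideal.mk_ker]
  have hdim : topologicalKrullDim D.subscheme ≤ 1 := by
    let g : D.subscheme → ↥(str ⁻¹' {y}) := fun z => ⟨i z, hrange z⟩
    have hg : Topology.IsInducing g :=
      Topology.IsInducing.of_comp (i.continuous.subtype_mk _) continuous_subtype_val
        i.isClosedEmbedding.isInducing
    exact hg.topologicalKrullDim_le.trans
      ((str.fiberHomeo y).symm.isEmbedding.isInducing.topologicalKrullDim_le.trans (hfib y))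
  have hnefZ : NefPt (A ⧸ m) ((Scheme.Modules.pullback i).obj L) := fun x hx => by
    let ιx := (IntMult.ptIdeal x).subschemeι
    haveI : IsIntegral (IntMult.ptIdeal x).subscheme :=
      S16188.isIntegral_subscheme _ isIrreducible_singleton.closure
    let j := ιx ≫ i
    haveI : IsIso j.toImage := inferInstance
    let e : (IntMult.ptIdeal x).subscheme ≅ j.ker.subscheme := asIso j.toImage
    have he : e.hom ≫ j.ker.subschemeι = j := j.toImage_imageι
    haveI : IsIntegral j.ker.subscheme := IsIntegral.of_isIso e.hom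
    have hdimJ : topologicalKrullDim ↥j.ker.subscheme = 1 :=
      (IsHomeomorph.topologicalKrullDim_eq _ (Scheme.homeoOfIso e).isHomeomorph).symm.trans hx
    let r := ιx ≫ t
    let r' := e.inv ≫ r
    have hr' : r' ≫ c = j.ker.subschemeι ≫ str := by
      rw [← cancel_epi e.hom]
      simp only [r', r, ← Category.assoc, e.hom_inv_id, Category.id_comp]
      rw [Category.assoc, ht, he, Category.assoc]
    haveI : IsProper r := inferInstanceAs (IsProper (ιx ≫ (D.subscheme ↘ Spec (CommRingCat.of (A ⧸ m)))))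
    haveI : IsProper r' := inferInstanceAs (IsProper (e.inv ≫ r))
    have h := hnef m hm j.ker r' inferInstance hdimJ hr'
    haveI : L.IsQuasicoherent := (VBLib.isCoh_of_ofRank (ProjTwist.isFinLocFreeOfRank_one hL)).1
    have w : e.hom ≫ r' = r := by simp [r']
    have e1 := TwistFlat.euler_iso_scheme r r' e w ((Scheme.Modules.pullback j.ker.subschemeι).obj L)
      inferInstance
    have e2 := TwistFlat.euler_iso_scheme r r' e w (Coh.structureModule j.ker.subscheme)
      (ProjTwist.isQuasicoherent_structureModule _)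
    letI : (IntMult.ptIdeal x).subscheme.Over (Spec (CommRingCat.of (A ⧸ m))) := ⟨r⟩
    haveI : IsProper ((IntMult.ptIdeal x).subscheme ↘ Spec (CommRingCat.of (A ⧸ m))) := ‹IsProper r›
    unfold Curv2.deg at h ⊢
    rw [← e1, ← e2] at h
    have e3 := EulerChar.euler_iso (A ⧸ m) ((Scheme.Modules.pullbackComp ιx i).app L ≪≫
      (Scheme.Modules.pullbackCongr he.symm).app L ≪≫
      ((Scheme.Modules.pullbackComp e.hom j.ker.subschemeι).app L).symm)
    have e4 := EulerChar.euler_iso (A ⧸ m) (QCoh.pullbackUnitIso e.hom)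
    refine le_of_le_of_eq h ?_
    exact congrArg₂ (fun a b : ℤ => a - ((1 : ℕ) : ℤ) * b) e3.symm e4
  obtain ⟨N, hN, ⟨o, ho⟩, ⟨eQ⟩⟩ := exists_twist_quot hL p
  haveI := ho
  let G := CohB1.tensorMod N Q
  let G'' := CohB1.tensorMod ((Scheme.Modules.pullback i).obj N) Q'
  let eG : G ≅ (Scheme.Modules.pushforward i).obj G'' :=
    (DefAmple27.tL N).mapIso eQ' ≪≫ (ChgRings.projIso i Q').app N
  let eLG : Q ≅ (Scheme.Modules.pushforward i).obj
      (CohDev.tens ((Scheme.Modules.pullback i).obj L) G'') :=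
    eQ.symm ≪≫ (DefAmple27.tL L).mapIso eG ≪≫ (ChgRings.projIso i G'').app L
  have hO := ProperFin.isCoh_structureModule X
  have hG : Coh.IsCoh G := CohDev.isCoh_tens (ProjTwist.isFinLocFreeOfRank_one hN) hQ
  have hH2 := fun M hM => subsingleton_HH_of_fibres str hfib M hM 2 le_rfl
  have hG1 : Subsingleton (Coh.HH X G 1) := h1_epi hH2 o hO.1 hG.1 h1
  haveI : N.IsQuasicoherent := (VBLib.isCoh_of_ofRank (ProjTwist.isFinLocFreeOfRank_one hN)).1
  have hN' := PicLoc.isInvertible_pullback i hN
  have hL' := PicLoc.isInvertible_pullback i hL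
  have hQ' : Coh.IsCoh Q' := ZClosLib.CohDescent.isCoh_pullback i Q hQ
  have hG'' : Coh.IsCoh G'' := CohDev.isCoh_tens (ProjTwist.isFinLocFreeOfRank_one hN') hQ'
  have hLG'' : Coh.IsCoh (CohDev.tens ((Scheme.Modules.pullback i).obj L) G'') :=
    CohDev.isCoh_tens (ProjTwist.isFinLocFreeOfRank_one hL') hG''
  have h1'' : Subsingleton (Coh.HH D.subscheme G'' 1) :=
    (pushEquiv_subsingleton (A := A) i G'' hG''.1 1).1
      (haveI := hG1; (CohLin.hIso eG.symm 1).toEquiv.subsingleton)
  have hz'' : Subsingleton (Coh.HH D.subscheme (CohDev.tens ((Scheme.Modules.pullback i).obj L) G'') 0) :=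
    (pushEquiv_subsingleton (A := A) i _ hLG''.1 0).1
      (haveI := h0; (CohLin.hIso eLG.symm 0).toEquiv.subsingleton)
  have hle := finrank_h0_le hdim hL' hnefZ hG'' h1''
  have hzero : Module.finrank (A ⧸ m)
      (Coh.HH D.subscheme (CohDev.tens ((Scheme.Modules.pullback i).obj L) G'') 0) = 0 := by
    haveI := hz''
    exact Module.finrank_zero_of_subsingleton
  haveI := EulerChar.finite_HH (A ⧸ m) G'' hG'' 0
  have hG0 : Subsingleton (Coh.HH D.subscheme G'' 0) :=
    (Module.finrank_zero_iff (R := A ⧸ m)).1 (by omega)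
  have hG0' : Subsingleton (Coh.HH X G 0) :=
    haveI := (pushEquiv_subsingleton (A := A) i G'' hG''.1 0).2 hG0
    (CohLin.hIso eG 0).toEquiv.subsingleton
  have hGz : IsZero G := isZero_of_gg
    (DefAmple27.gg_of_epi o inferInstance (DefAmple27.gg_of_desc (fun _ : PUnit.{u + 1} => 𝟙 _)
      ⟨fun a b hab => by
        simpa using congrArg
          (fun w => Sigma.ι (fun _ : PUnit.{u + 1} => Coh.structureModule X) ⟨⟩ ≫ w) hab⟩)) hG0'
  haveI := KFlat.additive_tensorBi_flip L
  exact ((show IsZero (CohB1.tensorMod (CohB1.tensorMod N Q) L) from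
    ((DCoh.tensorBi (X := X)).flip.obj L).map_isZero hGz).of_iso (ProjTwist.tensComm L _)).of_iso eQ.symm

variable {L : X.Modules}

/-- Lipman's theorem, the nef condition tested over closed points. -/
theorem closed_main {A : Type u} [CommRing A] [IsNoetherianRing A] (f : X ⟶ Spec (CommRingCat.of A)) [IsProper f]
    (hfib : ∀ y, topologicalKrullDim ↥(f.fiber y) ≤ 1)
    (h1 : Subsingleton (Coh.HH X (Coh.structureModule X) 1))
    (hL : PicF.IsInvertible L) (hnef : RelNefClosed f L) :
    Curv2.IsGloballyGenerated L ∧ Subsingleton (Coh.HH X L 1) := by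
  letI : X.Over (Spec (CommRingCat.of A)) := ⟨f⟩
  haveI : IsProper (X ↘ Spec (CommRingCat.of A)) := ‹IsProper f›
  haveI : IsLocallyNoetherian X := LocallyOfFiniteType.isLocallyNoetherian f
  have hLc := VBLib.isCoh_of_ofRank (ProjTwist.isFinLocFreeOfRank_one hL)
  exact (main (A := A) (fun M hM => subsingleton_HH_of_fibres f hfib M hM 2 le_rfl) h1 hLc
    (pointSections_closed hfib h1 hL hnef) L (𝟙 L) hLc).symm

end Groth.Agent.CBC.H1Zero

end
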