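import Groth.Agent.CBC.H1Zero.Field
import Groth.Agent.DefAmple27.Basic
import Groth.Agent.EulerChar.CurveVanish
import Groth.Agent.CohBase.FlatBC.Lift
import Groth.Agent.PicLaw.Basic
import Groth.Agent.S7411
import Groth.Agent.S0025
import Groth.Agent.VanQC.Model
import Groth.Agent.CohTop.CechBasic
import Groth.Agent.LocCoh.Punctured
import Groth.Agent.QCohGen.Noeth

/-!
# Vanishing and generation for quotients of an invertible module
-/

set_option autoImplicit false
set_option linter.style.haveILetI false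

universe u

open CategoryTheory CategoryTheory.Limits AlgebraicGeometry TopologicalSpace Opposite
open Groth.Agent.PullStalk.Sky Groth.Agent.PullStalk.Exact

noncomputable section

namespace Groth.Agent.CBC.H1Zero

variable {X : Scheme.{u}}

/-- `H^p` vanishes for `p ≥ 2` when the fibres over an affine base have dimension at most one. -/
theorem subsingleton_HH_of_fibres {Y : Scheme.{u}} (f : X ⟶ Y) [IsProper f] [IsAffine Y]
    (hdim : ∀ y : Y, topologicalKrullDim ↑(f.fiber y) ≤ 1)
    (F : X.Modules) (hF : Coh.IsQCoh F) (p : ℕ) (hp : 2 ≤ p) : Subsingleton (Coh.HH X F p) := by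
  haveI : F.IsQuasicoherent := hF
  haveI : Coh.IsQCoh F := hF
  obtain ⟨n, rfl⟩ : ∃ n, p = n + 1 := ⟨p - 1, by omega⟩
  obtain ⟨D⟩ := Groth.Agent.CBC.nonempty_model f (isAffineOpen_top Y)
  have hcov : iSup D.U = ⊤ := top_le_iff.mp D.cov
  have hvan : Subsingleton Γ((Coh.Rpush f (n + 1)).obj F, ⊤) :=
    Groth.Agent.VanQC.subsingleton_rpush_sections f F (n + 1) ⊤ fun y _ =>
      Groth.Agent.S7411.result f y 1 (hdim y) F (n + 1) (by omega)
  have hex := Groth.Agent.VanQC.cechExact_of_subsingleton_rpush D F (isAffineOpen_top Y) n hvan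
  obtain ⟨c⟩ := Groth.Agent.CohTop.CechBasic.cech_eq_HU D.U (n + 1) (Coh.toAb F)
    (fun m x q => Groth.Agent.LocCoh.Punctured.subsingleton_HU_of_isAffineOpen F (D.aff x) q)
  have h1 : Subsingleton (CohTop.cechH (Coh.toAb F).obj D.U (n + 1)) :=
    AddCommGrpCat.subsingleton_of_isZero
      ((Groth.Agent.CohAff.isZero_homology_iff_cechExact _ D.U n).mpr hex)
  have h2 : Subsingleton (CohTop.HU (Coh.toAb F) (n + 1) ⊤) :=
    hcov ▸ c.symm.toEquiv.subsingleton
  exact (Groth.Agent.CohTop.Basic.HEquivHUTop (Coh.toAb F) (n + 1)).toEquiv.subsingleton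

/-- `H¹` takes epimorphisms of quasi-coherent modules to surjections. -/
theorem h1_epi (hH2 : ∀ M : X.Modules, Coh.IsQCoh M → Subsingleton (Coh.HH X M 2))
    {A B : X.Modules} (g : A ⟶ B) [Epi g] (hA : Coh.IsQCoh A) (hB : Coh.IsQCoh B)
    (h : Subsingleton (Coh.HH X A 1)) : Subsingleton (Coh.HH X B 1) := by
  let C := ShortComplex.mk (kernel.ι g) g (kernel.condition g)
  have hC : C.ShortExact := { exact := ShortComplex.exact_of_f_is_kernel _ (kernelIsKernel g) }
  haveI : Subsingleton (Coh.HH X C.X₁ (1 + 1)) :=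
    hH2 _ (@QCoh.isQuasicoherent_kernel X A B g hA hB)
  haveI : Subsingleton (Coh.HH X C.X₂ 1) := h
  exact CohLin.subsingleton_X₃ hC (n := 1)

theorem hMap_smulEnd (M : X.Modules) (r : Γ(X, ⊤)) (n : ℕ) (x : Coh.HH X M n) :
    CohLin.hMap (CohBase.FlatBC.smulEnd M r) n x = (show Coh.Γtop X from r) • x := by
  show Sheaf.H.map (CohLin.abMap (CohBase.FlatBC.smulEnd M r)) n x =
    Sheaf.H.map (Coh.smulAb M (show Coh.Γtop X from r)) n x
  rfl

/-- A globally generated module without sections is zero. -/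
theorem isZero_of_gg {M : X.Modules} (hg : Curv2.IsGloballyGenerated M)
    (h0 : Subsingleton (Coh.HH X M 0)) : IsZero M := by
  haveI := h0
  haveI : Subsingleton Γ(M, ⊤) := (ProperFin.h0Sec M).symm.toEquiv.subsingleton
  obtain ⟨ι, p, hp⟩ := DefAmple27.exists_desc hg
  haveI := hp
  have hz : p = 0 := Sigma.hom_ext _ _ fun i => by
    rw [comp_zero]
    exact EulerChar.hom_eq_of_sec fun U => by
      rw [← Props.GenLocus.sec_res _ (le_top : U ≤ ⊤), ← Props.GenLocus.sec_res
          (0 : Coh.structureModule X ⟶ M) (le_top : U ≤ ⊤),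
        Subsingleton.elim (Props.GenLocus.sec (Sigma.ι (fun _ : ι => Coh.structureModule X) i ≫ p) ⊤)]
  refine (IsZero.iff_id_eq_zero M).2 ((cancel_epi p).1 ?_)
  rw [hz, zero_comp, zero_comp]

/-- Induction over the quotients of a coherent module, from smaller to larger. -/
theorem quot_induction [IsNoetherian X] {L : X.Modules} (hL : Coh.IsCoh L) (P : X.Modules → Prop)
    (step : ∀ (Q : X.Modules) (p : L ⟶ Q), Epi p → Coh.IsCoh Q →
      (∀ (Q' : X.Modules) (π : Q ⟶ Q'), Epi π → Coh.IsCoh Q' → ¬ IsIso π → P Q') → P Q)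
    (Q : X.Modules) (p : L ⟶ Q) [Epi p] (hQ : Coh.IsCoh Q) : P Q := by
  let L' : QCohCat.QCoh X := ⟨L, hL.1⟩
  haveI := QCohGen.Noeth.isNoetherianObject_of_isCoh L' hL
  have key : ∀ (T : Subobject L') (Q : X.Modules) (p : L ⟶ Q) (hp : Epi p) (hQ : Coh.IsCoh Q)
      (K' : QCohCat.QCoh X) (ι' : K' ⟶ L') (_ : Mono ι') (e : K'.obj ≅ kernel p),
      ι'.hom = e.hom ≫ kernel.ι p → T = Subobject.mk ι' → P Q := by
    intro T
    induction T using WellFoundedGT.induction with
    | _ T ih =>
      intro Q p hp hQ K' ι' hι' e hcomm hT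
      refine step Q p hp hQ fun Q' π hπ hQ' hni => ?_
      haveI := hp
      haveI := hπ
      let K : QCohCat.QCoh X :=
        ⟨kernel (p ≫ π), @QCoh.isQuasicoherent_kernel X L Q' (p ≫ π) hL.1 hQ'.1⟩
      let κ : K ⟶ L' := ObjectProperty.homMk (kernel.ι (p ≫ π))
      haveI : Mono κ := (QCohCat.isQCoh X).ι.mono_of_mono_map (inferInstanceAs (Mono (kernel.ι (p ≫ π))))
      refine ih (Subobject.mk κ) ?_ Q' (p ≫ π) inferInstance hQ' K κ inferInstance (Iso.refl _)
        (Category.id_comp _).symm rfl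
      rw [hT]
      refine lt_of_le_of_ne (Subobject.mk_le_mk_of_comm (ObjectProperty.homMk (e.hom ≫
        kernel.lift (p ≫ π) (kernel.ι p) (by rw [kernel.condition_assoc, zero_comp])))
        (ObjectProperty.hom_ext _ ?_)) fun heq => hni ?_
      · show (e.hom ≫ kernel.lift (p ≫ π) (kernel.ι p) _) ≫ kernel.ι (p ≫ π) = ι'.hom
        rw [Category.assoc, kernel.lift_ι, hcomm]
      · let j : K ⟶ K' := Subobject.ofMkLEMk κ ι' heq.ge
        have hj : j.hom ≫ ι'.hom = kernel.ι (p ≫ π) :=
          congrArg (fun m => m.hom) (Subobject.ofMkLEMk_comp heq.ge)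
        obtain ⟨r, hr⟩ : ∃ r : Q' ⟶ Q, (p ≫ π) ≫ r = p := by
          refine ⟨Abelian.epiDesc (p ≫ π) p ?_, Abelian.comp_epiDesc _ _ _⟩
          rw [← hj, hcomm]
          simp
        rw [Category.assoc] at hr
        have h1 : π ≫ r = 𝟙 Q := (cancel_epi p).1 (hr.trans (Category.comp_id p).symm)
        haveI : Mono π := SplitMono.mono ⟨r, h1⟩
        exact isIso_of_mono_of_epi π
  let K' : QCohCat.QCoh X := ⟨kernel p, @QCoh.isQuasicoherent_kernel X L Q p hL.1 hQ.1⟩
  let ι' : K' ⟶ L' := ObjectProperty.homMk (kernel.ι p)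
  haveI : Mono ι' := (QCohCat.isQCoh X).ι.mono_of_mono_map (inferInstanceAs (Mono (kernel.ι p)))
  exact key _ Q p inferInstance hQ K' ι' inferInstance (Iso.refl _) (Category.id_comp _).symm rfl

variable {A : Type u} [CommRing A] [IsNoetherianRing A] [X.Over (Spec (CommRingCat.of A))]
  [IsProper (X ↘ Spec (CommRingCat.of A))]

/-- The global function attached to an element of the base. -/
abbrev base (a : A) : Γ(X, ⊤) := Coh.toGlobal (X ↘ Spec (CommRingCat.of A)) a

/-- No nonzero quotient of `L` killed by a maximal ideal of the base is without sections. -/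
def PointSections (A : Type u) [CommRing A] [X.Over (Spec (CommRingCat.of A))] (L : X.Modules) : Prop :=
  ∀ (Q : X.Modules) (p : L ⟶ Q), Epi p → Coh.IsCoh Q → ∀ (m : Ideal A), m.IsMaximal →
    (∀ t ∈ m, CohBase.FlatBC.smulEnd Q (base t) = 0) → Subsingleton (Coh.HH X Q 0) → IsZero Q

variable (hH2 : ∀ M : X.Modules, Coh.IsQCoh M → Subsingleton (Coh.HH X M 2))
  (h1 : Subsingleton (Coh.HH X (Coh.structureModule X) 1))

include A hH2 h1 in
/-- Every quotient of `L` is globally generated and has no `H¹`. -/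
theorem main {L : X.Modules} (hL : Coh.IsCoh L) (hpt : PointSections A L)
    (Q : X.Modules) (p : L ⟶ Q) [Epi p] (hQ : Coh.IsCoh Q) :
    Subsingleton (Coh.HH X Q 1) ∧ Curv2.IsGloballyGenerated Q := by
  haveI : IsLocallyNoetherian X :=
    LocallyOfFiniteType.isLocallyNoetherian (X ↘ Spec (CommRingCat.of A))
  haveI : CompactSpace X := QuasiCompact.compactSpace_of_compactSpace (X ↘ Spec (CommRingCat.of A))
  haveI : IsNoetherian X := ⟨⟩
  refine quot_induction hL (fun Q => Subsingleton (Coh.HH X Q 1) ∧ Curv2.IsGloballyGenerated Q)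
    (fun Q p hp hQ ih => ?_) Q p hQ
  haveI := hp
  have hO := ProperFin.isCoh_structureModule X
  have hggO : Curv2.IsGloballyGenerated (Coh.structureModule X) :=
    DefAmple27.gg_of_desc (fun _ : PUnit.{u + 1} => 𝟙 _) ⟨fun a b hab => by
      simpa using congrArg (fun w => Sigma.ι (fun _ : PUnit.{u + 1} => Coh.structureModule X) ⟨⟩ ≫ w) hab⟩
  by_cases hs : ∃ s : Coh.structureModule X ⟶ Q, s ≠ 0
  · obtain ⟨s, hs⟩ := hs
    let M := Abelian.image s
    have hM : Coh.IsCoh M := CohDev.isCoh_image s hO hQ.1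
    have hMgg : Curv2.IsGloballyGenerated M :=
      DefAmple27.gg_of_epi (Abelian.factorThruImage s) inferInstance hggO
    have hM1 : Subsingleton (Coh.HH X M 1) := h1_epi hH2 (Abelian.factorThruImage s) hO.1 hM.1 h1
    have hC : Coh.IsCoh (cokernel s) := CohDev.isCoh_cokernel s hO.1 hQ
    obtain ⟨hB1, hBgg⟩ := ih _ (cokernel.π s) inferInstance hC fun hiso => hs (by
      haveI := hiso
      rw [← cancel_mono (cokernel.π s), cokernel.condition, zero_comp])
    let T := ShortComplex.mk (Abelian.image.ι s) (cokernel.π s) (kernel.condition _)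
    have hT : T.ShortExact :=
      { exact := T.exact_of_f_is_kernel (kernelIsKernel _)
        mono_f := inferInstanceAs (Mono (Abelian.image.ι s))
        epi_g := inferInstanceAs (Epi (cokernel.π s)) }
    haveI : Subsingleton (Coh.HH X T.X₁ 1) := hM1
    haveI : Subsingleton (Coh.HH X T.X₃ 1) := hB1
    exact ⟨CohLin.subsingleton_X₂ hT (n := 1), DefAmple27.gg_of_shortExact hT hM1 hMgg hBgg⟩
  push Not at hs
  -- no sections: `Q = 0`
  have h0 : Subsingleton (Coh.HH X Q 0) := by
    have hsec : Subsingleton Γ(Q, ⊤) := subsingleton_of_forall_eq 0 fun σ => by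
      have h := congrArg (fun w => Props.GenLocus.sec w ⊤) (hs (Props.GenLocus.homOfSec σ))
      rw [Props.GenLocus.sec_homOfSec, QCoh.res_self] at h
      exact h
    exact (ProperFin.h0Sec Q).toEquiv.subsingleton
  suffices hz : IsZero Q by
    haveI : Epi (0 : Coh.structureModule X ⟶ Q) := ⟨fun a b _ => hz.eq_of_src a b⟩
    exact ⟨h1_epi hH2 (0 : Coh.structureModule X ⟶ Q) hO.1 hQ.1 h1,
      DefAmple27.gg_of_epi (0 : Coh.structureModule X ⟶ Q) inferInstance hggO⟩
  by_contra hnz
  obtain ⟨x₀, hx₀⟩ : (CohB1.support Q).Nonempty := by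
    by_contra h
    exact hnz (CohDev.isZero_of_support_eq_empty (Set.not_nonempty_iff_eq_empty.1 h))
  obtain ⟨Z, hZ, hclosed⟩ := (CohDev.isClosed_support hQ).exists_closed_singleton ⟨x₀, hx₀⟩
  let str := X ↘ Spec (CommRingCat.of A)
  have hy : IsClosed ({str Z} : Set (Spec (CommRingCat.of A))) := by
    rw [← Set.image_singleton]
    exact str.isClosedMap _ hclosed
  have hm : (str Z).asIdeal.IsMaximal := (PrimeSpectrum.isClosed_singleton_iff_isMaximal _).1 hy
  by_cases hkill : ∀ t ∈ (str Z).asIdeal, CohBase.FlatBC.smulEnd Q (base t) = 0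
  · exact hnz (hpt Q p hp hQ _ hm hkill h0)
  push Not at hkill
  obtain ⟨t, htm, htne⟩ := hkill
  let μ : Q ⟶ Q := CohBase.FlatBC.smulEnd Q (base t)
  -- `t` is not surjective on `Q`
  have hnepi : ¬ Epi μ := fun he => by
    haveI := he
    haveI := FDesc.QuasiFlat.finite_stalk_of_isCoh Q hQ Z
    have hgerm : X.presheaf.germ ⊤ Z trivial (base t) ∈ IsLocalRing.maximalIdeal (X.presheaf.stalk Z) := by
      rw [IsLocalRing.mem_maximalIdeal, mem_nonunits_iff]
      intro hu
      have hb : Z ∈ X.basicOpen (base t) := (X.mem_basicOpen (base t) Z (Opens.mem_top Z)).mpr hu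
      have hb' : str Z ∈ PrimeSpectrum.basicOpen t := by
        have e : str ⁻¹ᵁ (Spec (CommRingCat.of A)).basicOpen ((Scheme.ΓSpecIso (CommRingCat.of A)).inv t) =
            X.basicOpen (base t) := by
          rw [Scheme.preimage_basicOpen_top]
          rfl
        rw [← e, AlgebraicGeometry.basicOpen_eq_of_affine] at hb
        exact hb
      exact hb' htm
    have htop : (⊤ : Submodule (X.presheaf.stalk Z) (Q.presheaf.stalk Z)) ≤
        IsLocalRing.maximalIdeal (X.presheaf.stalk Z) • ⊤ := fun v _ => by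
      obtain ⟨w, rfl⟩ := stalk_surjective μ Z v
      obtain ⟨W, hxW, m, rfl⟩ := exists_germM_eq Q Z w
      rw [stalkLin_germ, CohBase.FlatBC.smulEnd_app]
      have : germM Q W Z hxW (QCoh.rres (le_top : W ≤ ⊤) (base t) • m) =
          X.presheaf.germ ⊤ Z trivial (base t) • germM Q W Z hxW m := by
        rw [germM_smul]
        congr 1
        exact X.presheaf.germ_res_apply _ Z hxW _
      exact this ▸ Submodule.smul_mem_smul hgerm trivial
    have hbot := Submodule.eq_bot_of_le_smul_of_le_jacobson_bot _ _ Module.Finite.fg_top htop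
      (IsLocalRing.jacobson_eq_maximalIdeal ⊥ bot_ne_top).ge
    exact hZ (subsingleton_of_forall_eq 0 fun v => (Submodule.mem_bot (X.presheaf.stalk Z)).1
      (hbot ▸ (Submodule.mem_top : v ∈ ⊤)))
  -- the coimage
  let I := Abelian.coimage μ
  let π : Q ⟶ I := cokernel.π (kernel.ι μ)
  let j : I ⟶ Q := Abelian.factorThruCoimage μ
  have hπj : π ≫ j = μ := Abelian.coimage.fac μ
  have hI : Coh.IsCoh I := CohDev.isCoh_cokernel _ (@QCoh.isQuasicoherent_kernel X Q Q μ hQ.1 hQ.1) hQ
  let T := ShortComplex.mk j (cokernel.π j) (cokernel.condition j)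
  have hT : T.ShortExact :=
    { exact := ShortComplex.exact_of_g_is_cokernel _ (cokernelIsCokernel j)
      mono_f := inferInstanceAs (Mono j)
      epi_g := inferInstanceAs (Epi (cokernel.π j)) }
  have hC : Coh.IsCoh (cokernel j) := CohDev.isCoh_cokernel j hI.1 hQ
  have hproper : ¬ IsIso (cokernel.π j) := fun hiso => htne (by
    haveI := hiso
    have : j = 0 := by rw [← cancel_mono (cokernel.π j), cokernel.condition, zero_comp]
    show μ = 0
    rw [← hπj, this, comp_zero])
  obtain ⟨hC1, hCgg⟩ := ih _ (cokernel.π j) inferInstance hC hproper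
  have hCnz : ¬ Subsingleton (Coh.HH X (cokernel j) 0) := fun h => hnepi (by
    haveI : Epi j := Preadditive.epi_of_cokernel_zero ((isZero_of_gg hCgg h).eq_of_tgt _ _)
    rw [← hπj]
    infer_instance)
  refine hCnz (subsingleton_of_forall_eq 0 fun z => ?_)
  suffices hδ : CohLin.hδ hT 0 z = 0 by
    obtain ⟨w, hw⟩ := CohLin.exists_hMap_g_eq hT z hδ
    rw [← hw, Subsingleton.elim w 0, map_zero]
  by_cases hmono : Mono μ
  · haveI := hmono
    haveI hπmono : Mono π := by
      haveI : Mono (π ≫ j) := hπj.symm ▸ hmono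
      exact mono_of_mono π j
    haveI := isIso_of_mono_of_epi π
    haveI : Module.Finite A (Coh.HH X Q 1) :=
      ProperFin.finHH_of_chow (fun Z f hf => S0025.result f) Q hQ 1
    haveI : Subsingleton (Coh.HH X T.X₃ 1) := hC1
    let tG : Coh.Γtop X := base t
    have hsurj : ∀ x : Coh.HH X Q 1, ∃ w, x = tG • w := fun x => by
      obtain ⟨v, hv⟩ := CohLin.exists_hMap_f_eq hT x (Subsingleton.elim _ _)
      refine ⟨CohLin.hMap (inv π) 1 v, ?_⟩
      have hj : j = inv π ≫ μ := by rw [← hπj, IsIso.inv_hom_id_assoc]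
      have hv' : CohLin.hMap j 1 v = x := hv
      rw [← hv', hj, CohLin.hMap_comp]
      exact hMap_smulEnd Q (base t) 1 _
    have hle : (⊤ : Submodule A (Coh.HH X Q 1)) ≤ Ideal.span {t} • ⊤ := fun x _ => by
      obtain ⟨w, rfl⟩ := hsurj x
      exact (show tG • w = t • w from rfl) ▸
        Submodule.smul_mem_smul (Ideal.mem_span_singleton_self t) trivial
    obtain ⟨r, hr, hr0⟩ := Submodule.exists_sub_one_mem_and_smul_eq_zero_of_fg_of_le_smul
      (Ideal.span {t}) ⊤ Module.Finite.fg_top hle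
    have hrI : ∀ x : Coh.HH X I 1, r • x = 0 := fun x => by
      have e : r • CohLin.hMap (inv π) 1 x = 0 := hr0 _ trivial
      have h' := congrArg (CohLin.overLin A (CohLin.hMap π 1)) e
      rw [map_smul, map_zero, CohLin.overLin_apply, ← CohLin.hMap_comp, IsIso.inv_hom_id,
        CohLin.hMap_id] at h'
      exact h'
    have htz : t • z = 0 := by
      have hμC : CohBase.FlatBC.smulEnd (cokernel j) (base t) = 0 := by
        rw [← cancel_epi (cokernel.π j), comp_zero, ← CohBase.FlatBC.smulEnd_comp]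
        show μ ≫ cokernel.π j = 0
        rw [← hπj, Category.assoc, cokernel.condition, comp_zero]
      have h' := hMap_smulEnd (cokernel j) (base t) 0 z
      rw [hμC] at h'
      exact h'.symm.trans ((CohLin.hMapHom (cokernel j) (cokernel j) 0 z).map_zero)
    obtain ⟨c, hc⟩ := Ideal.mem_span_singleton'.1 hr
    have hrz : r • z = z := by
      rw [show r = 1 + c * t by rw [hc]; ring, add_smul, mul_smul, htz, smul_zero, add_zero, one_smul]
    have h' := (CohLin.overLin A (CohLin.hδ hT 0)).map_smul r z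
    rw [CohLin.overLin_apply, CohLin.overLin_apply, hrz] at h'
    rw [h']
    exact hrI _
  · have hπiso : ¬ IsIso π := fun hiso => hmono (by
      haveI := hiso
      rw [← hπj]
      infer_instance)
    haveI : Subsingleton (Coh.HH X T.X₁ (0 + 1)) := (ih _ π inferInstance hI hπiso).1
    exact Subsingleton.elim _ _

end Groth.Agent.CBC.H1Zero

end
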