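import Groth.Agent.EulerChar.Components
import Groth.Agent.CohTop.Vanishing

/-!
# Euler characteristics of twists by a nef invertible module on a curve
-/

set_option autoImplicit false
set_option linter.style.haveILetI false

universe u

open CategoryTheory CategoryTheory.Limits AlgebraicGeometry TopologicalSpace
open Groth.Agent.PullStalk.Sky Groth.Agent.PullStalk.Exact

noncomputable section

namespace Groth.Agent.CBC.H1Zero

variable {X : Scheme.{u}} (k : Type u) [Field k] [X.Over (Spec (CommRingCat.of k))]
  [IsProper (X ↘ Spec (CommRingCat.of k))]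

/-- Nonnegative degree on every integral curve through generic points. -/
def NefPt (L : X.Modules) : Prop :=
  ∀ x : X, topologicalKrullDim (IntMult.ptIdeal x).subscheme = 1 →
    0 ≤ @Curv2.deg k _ (IntMult.ptIdeal x).subscheme
      ⟨(IntMult.ptIdeal x).subschemeι ≫ (X ↘ Spec (CommRingCat.of k))⟩
      ((Scheme.Modules.pullback (IntMult.ptIdeal x).subschemeι).obj L) 1

theorem topDim_le_zero_of_points {Z : Set X} (hZ : IsClosed Z)
    (hc : ∀ z ∈ Z, IsClosed ({z} : Set X)) : topologicalKrullDim ↥Z ≤ 0 := by
  refine Order.krullDim_nonpos_iff_forall_isMax.2 fun A B hAB => ?_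
  obtain ⟨a, ha⟩ := A.isIrreducible'.nonempty
  have hirr : IsIrreducible (closure (Subtype.val '' (B : Set ↥Z))) :=
    (B.isIrreducible'.image _ continuous_subtype_val.continuousOn).closure
  have hgen := hirr.isGenericPoint_genericPoint isClosed_closure
  have hmem : hirr.genericPoint ∈ Z :=
    (closure_minimal (Subtype.coe_image_subset Z _) hZ) hgen.mem
  have hone : ∀ b ∈ (B : Set ↥Z), (b : X) = hirr.genericPoint := fun b hb => by
    have h : (b : X) ∈ closure ({hirr.genericPoint} : Set X) := hgen.def.symm ▸ subset_closure ⟨b, hb, rfl⟩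
    rwa [(hc _ hmem).closure_eq] at h
  intro b hb
  have : b = a := Subtype.ext ((hone b hb).trans (hone a (hAB ha)).symm)
  rwa [this]

variable {k}

/-- A nef invertible module has nonnegative deviation on every coherent module. -/
theorem dev_nonneg (hdim : topologicalKrullDim X ≤ 1) {L : X.Modules} (hL : PicF.IsInvertible L)
    (hnef : NefPt k L) {G : X.Modules} (hG : Coh.IsCoh G) :
    0 ≤ EulerChar.dev k (ProjTwist.isFinLocFreeOfRank_one hL) (CohDev.kcl G) := by
  haveI := EulerChar.isNoetherian k (X := X)
  have hE := ProjTwist.isFinLocFreeOfRank_one hL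
  refine CohDev.devissage_on Set.univ (fun M => 0 ≤ EulerChar.dev k hE (CohDev.kcl M))
    (fun M hM => by rw [CohDev.kcl_of_isZero hM, map_zero]) (fun S hS h₁ h₂ h₃ _ p₁ p₃ => ?_)
    (fun x _ J hJ _ => ?_) hG (Set.subset_univ _)
  · show 0 ≤ EulerChar.dev k hE (CohDev.kcl S.X₂)
    rw [CohDev.kcl_add hS h₁ h₂ h₃, map_add]
    exact add_nonneg p₁ p₃
  · show 0 ≤ EulerChar.dev k hE (CohDev.kcl J)
    by_cases hx : IsClosed ({x} : Set X)
    · refine (EulerChar.dev_eq_zero_of_support k hE hJ.choose_spec.2.1
        (topDim_le_zero_of_points (CohDev.isClosed_support hJ.choose_spec.2.1) fun z hz => ?_)).ge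
      have := hJ.support_subset hz
      rw [hx.closure_eq, Set.mem_singleton_iff] at this
      rwa [this]
    · obtain ⟨g, hg, hJc, hxJ⟩ := hJ
      haveI := hg
      have hoz : Coh.IsCoh (Cyc.closureStructureSheaf x) := EulerChar.isCoh_quotMod k (IntMult.ptIdeal x)
      have hsmall : ∀ z ∈ closure ({x} : Set X) \ {x}, IsClosed ({z} : Set X) := fun z hz =>
        EulerChar.isClosed_singleton_of_specializes hdim (specializes_iff_mem_closure.2 hz.1)
          (fun h => hz.2 h.symm)
      have hmem := CohDev.kcl_sub_mem_of_map g hJc hoz (T := closure {x}) (U := {x})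
        ((CohDev.support_subset_of_mono g).trans (EulerChar.support_oz_subset x))
        (EulerChar.support_oz_subset x)
        (fun y hy => by cases hy; exact CohDev.stalk_piece g hxJ)
      have hle : CohDev.clSpan (closure ({x} : Set X) \ {x}) ≤ (EulerChar.dev k hE).ker := by
        rw [CohDev.clSpan, AddSubgroup.closure_le]
        rintro c ⟨M, hM, hsub, rfl⟩
        exact EulerChar.dev_eq_zero_of_support k hE hM
          (topDim_le_zero_of_points (CohDev.isClosed_support hM) fun z hz => hsmall z (hsub hz))
      have h0 := hle hmem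
      rw [AddMonoidHom.mem_ker, map_sub, sub_eq_zero] at h0
      rw [h0]
      refine ((EulerChar.dev_quotMod k (IntMult.ptIdeal x) hE).ge).trans' (hnef x ?_)
      -- the closure of a nonclosed point is a curve
      let ι := (IntMult.ptIdeal x).subschemeι
      have hrange : Set.range ι = closure ({x} : Set X) :=
        RedSub.range_vanishingIdeal_subschemeι ⟨closure {x}, isClosed_closure⟩
      refine le_antisymm (ι.isClosedEmbedding.isInducing.topologicalKrullDim_le.trans hdim) ?_
      obtain ⟨z, hz, hzx⟩ : ∃ z ∈ closure ({x} : Set X), z ≠ x := by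
        by_contra h
        push Not at h
        exact hx (closure_eq_iff_isClosed.1 (Set.Subset.antisymm (fun z hz => h z hz) subset_closure))
      obtain ⟨a, ha⟩ : x ∈ Set.range ι := hrange ▸ subset_closure rfl
      obtain ⟨b, hb⟩ : z ∈ Set.range ι := hrange ▸ hz
      haveI hirr : IsIntegral (IntMult.ptIdeal x).subscheme :=
        S16188.isIntegral_subscheme _ isIrreducible_singleton.closure
      let c : ↥(IntMult.ptIdeal x).subscheme → IrreducibleCloseds ↥(IntMult.ptIdeal x).subscheme :=
        fun w => ⟨closure {w}, isIrreducible_singleton.closure, isClosed_closure⟩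
      have hba : a ⤳ b := by
        rw [← ι.isClosedEmbedding.isInducing.specializes_iff, ha, hb]
        exact specializes_iff_mem_closure.2 hz
      have hlt : c b < c a := by
        refine lt_of_le_of_ne (show closure {b} ⊆ closure {a} from hba.closure_subset) fun h => hzx ?_
        have := (inseparable_iff_closure_eq.2 (congrArg
          (fun s : IrreducibleCloseds ↥(IntMult.ptIdeal x).subscheme => (s : Set ↥(IntMult.ptIdeal x).subscheme)) h)).eq
        rw [← ha, ← hb, this]
      let ser : LTSeries (IrreducibleCloseds ↥(IntMult.ptIdeal x).subscheme) :=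
        LTSeries.mk 1 ![c b, c a] (Fin.strictMono_iff_lt_succ.2 fun i => by
          fin_cases i
          exact hlt)
      exact Order.LTSeries.length_le_krullDim ser

/-- If `H¹(G) = 0` and `H⁰(G) ≠ 0` then `L ⊗ G` has a nonzero section for nef `L`. -/
theorem finrank_h0_le (hdim : topologicalKrullDim X ≤ 1) {L : X.Modules} (hL : PicF.IsInvertible L)
    (hnef : NefPt k L) {G : X.Modules} (hG : Coh.IsCoh G) (h1 : Subsingleton (Coh.HH X G 1)) :
    Module.finrank k (Coh.HH X G 0) ≤ Module.finrank k (Coh.HH X (CohDev.tens L G) 0) := by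
  haveI := EulerChar.isNoetherian k (X := X)
  haveI : NoetherianSpace X.toTopCat := inferInstanceAs (NoetherianSpace X)
  have hv : ∀ (M : X.Modules) p, 2 ≤ p → Subsingleton (Coh.HH X M p) := fun M p hp =>
    CohTop.Vanishing.grothendieck_vanishing (X := X.toTopCat) 1 hdim (Coh.toAb M) p hp
  have hd := dev_nonneg hdim hL hnef hG
  rw [EulerChar.dev_kcl k _ hG, EulerChar.euler_eq_sum k (hv _), EulerChar.euler_eq_sum k (hv G)] at hd
  have hG1 : Module.finrank k (Coh.HH X G 1) = 0 := by
    haveI := h1
    exact Module.finrank_zero_of_subsingleton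
  simp only [Finset.sum_range_succ, Finset.sum_range_zero, hG1, pow_zero, pow_one] at hd
  push_cast at hd
  omega

end Groth.Agent.CBC.H1Zero

end
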